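import Mathlib
import Cfsg.Agent.Lib.Helper1.CFitting
import Cfsg.Agent.Lib.Helper1.GNPC.Helpers
import Cfsg.Agent.Lib.Helper18.PCore
import Cfsg.Agent.Lib.Helper12.Local
import Cfsg.Agent.Lib.Helper20.HHExtK

set_option autoImplicit false

namespace Cfsg.Agent.Lib.Helper1.PrimeAct

open Cfsg.Agent.Lib.Helper1

theorem normal_pgroup_eq_bot_of_faithful_irred {Γ : Type*} [Group Γ] [Finite Γ]
    {W : Type*} [CommGroup W] [Finite W] [Nontrivial W] {ℓ : ℕ} [hℓ : Fact ℓ.Prime]
    (hW : ∀ w : W, w ^ ℓ = 1) (φ : Γ →* MulAut W) (hφ : Function.Injective φ)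
    (hirr : ∀ W₁ : Subgroup W, (∀ g w, w ∈ W₁ → φ g w ∈ W₁) → W₁ = ⊥ ∨ W₁ = ⊤)
    (P : Subgroup Γ) [hPn : P.Normal] (hP : IsPGroup ℓ P) : P = ⊥ := by
  classical
  letI act : MulAction ↥P W := MulAction.compHom W (φ.comp P.subtype)
  have hsmul : ∀ (g : ↥P) (w : W), g • w = φ g.1 w := fun g w => rfl
  have hWp : IsPGroup ℓ W := fun w => ⟨1, by rw [pow_one]; exact hW w⟩
  have hdvd : ℓ ∣ Nat.card W := by
    obtain ⟨n, hn0, hn⟩ := hWp.nontrivial_iff_card.mp inferInstance
    rw [hn]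
    exact dvd_pow_self _ (ne_of_gt hn0)
  have h1fix : (1 : W) ∈ MulAction.fixedPoints ↥P W := by
    intro g
    rw [hsmul, map_one]
  obtain ⟨b, hb, hb1⟩ := hP.exists_fixed_point_of_prime_dvd_card_of_fixed_point W hdvd h1fix
  let W₁ : Subgroup W :=
    { carrier := {w | ∀ g ∈ P, φ g w = w}
      one_mem' := fun g _ => map_one _
      mul_mem' := by
        intro a c ha hc g hg
        rw [map_mul, ha g hg, hc g hg]
      inv_mem' := by
        intro a ha g hg
        rw [map_inv, ha g hg] }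
  have hinv : ∀ g w, w ∈ W₁ → φ g w ∈ W₁ := by
    intro g w hw h hh
    have h1 : g⁻¹ * h * g ∈ P := by
      have := hPn.conj_mem h hh g⁻¹
      rwa [inv_inv] at this
    have h2 : φ h (φ g w) = φ g (φ (g⁻¹ * h * g) w) := by
      rw [← MulAut.mul_apply, ← MulAut.mul_apply, ← map_mul, ← map_mul]
      congr 2
      group
    rw [h2, hw _ h1]
  have hbW : b ∈ W₁ := by
    intro g hg
    have := hb ⟨g, hg⟩
    rwa [hsmul] at this
  rcases hirr W₁ hinv with h | h
  · exfalso
    rw [h, Subgroup.mem_bot] at hbW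
    exact hb1 hbW.symm
  · rw [eq_bot_iff]
    intro g hg
    rw [Subgroup.mem_bot]
    apply hφ
    rw [map_one]
    apply MulEquiv.ext
    intro w
    have hw : w ∈ W₁ := by rw [h]; exact Subgroup.mem_top w
    rw [MulAut.one_apply]
    exact hw g hg

theorem comm_of_faithful_irred {Γ : Type*} [Group Γ] [Finite Γ] [hsolv : Group.IsSolvable Γ]
    (hodd : Odd (Nat.card Γ))
    {W : Type*} [CommGroup W] [Finite W] {ℓ r : ℕ} (hℓ : ℓ.Prime) (hr : r.Prime)
    (hW : ∀ w : W, w ^ ℓ = 1) (φ : Γ →* MulAut W) (hφ : Function.Injective φ)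
    (hirr : ∀ W₁ : Subgroup W, (∀ g w, w ∈ W₁ → φ g w ∈ W₁) → W₁ = ⊥ ∨ W₁ = ⊤)
    (K : Subgroup Γ) [hKn : K.Normal] (x : Γ) (hxr : x ^ r = 1) (hcop : (Nat.card K).Coprime r)
    (hfix : ∀ w, φ x w = w → w = 1) : ∀ k ∈ K, x * k = k * x := by
  classical
  have hfℓ : Fact ℓ.Prime := ⟨hℓ⟩
  obtain ⟨E, hE⟩ : ∃ E : Subgroup Γ, E = (Cfsg.fittingSubgroup ↥K).map K.subtype := ⟨_, rfl⟩
  have hEK : E ≤ K := hE ▸ Subgroup.map_subtype_le _
  have hFchar : (Cfsg.fittingSubgroup ↥K).Characteristic :=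
    Cfsg.Agent.Lib.Helper12.fittingSubgroup_characteristic ↥K
  have hEn : E.Normal := by
    rw [hE]
    exact ConjAct.normal_of_characteristic_of_normal
  by_cases hcase : ∀ e ∈ E, x * e = e * x
  · intro k hk
    obtain ⟨z, hz⟩ : ∃ z : Γ, z = x * k * x⁻¹ * k⁻¹ := ⟨_, rfl⟩
    have hzK : z ∈ K := by
      rw [hz]
      exact K.mul_mem (hKn.conj_mem k hk x) (K.inv_mem hk)
    have hzc : ∀ e ∈ E, z * e = e * z := by
      intro e he
      have h1 : k⁻¹ * e * k ∈ E := by
        have := hEn.conj_mem e he k⁻¹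
        rwa [inv_inv] at this
      have h2 := hcase _ h1
      have h3 := hcase e he
      have h4 : x⁻¹ * (k⁻¹ * e * k) = (k⁻¹ * e * k) * x⁻¹ := by
        calc x⁻¹ * (k⁻¹ * e * k) = x⁻¹ * ((k⁻¹ * e * k) * x) * x⁻¹ := by group
          _ = x⁻¹ * (x * (k⁻¹ * e * k)) * x⁻¹ := by rw [h2]
          _ = (k⁻¹ * e * k) * x⁻¹ := by group
      calc z * e = x * k * (x⁻¹ * (k⁻¹ * e * k)) * k⁻¹ := by rw [hz]; group
        _ = x * k * ((k⁻¹ * e * k) * x⁻¹) * k⁻¹ := by rw [h4]
        _ = (x * e) * k * x⁻¹ * k⁻¹ := by group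
        _ = (e * x) * k * x⁻¹ * k⁻¹ := by rw [h3]
        _ = e * z := by rw [hz]; group
    have hzE : z ∈ E := by
      have h1 : (⟨z, hzK⟩ : ↥K) ∈ Subgroup.centralizer (Cfsg.fittingSubgroup ↥K : Set ↥K) := by
        rw [Subgroup.mem_centralizer_iff]
        intro e he
        apply Subtype.ext
        have heE : (e : Γ) ∈ E := by
          rw [hE]
          exact ⟨e, he, rfl⟩
        exact (hzc _ heE).symm
      have h2 := centralizer_fittingSubgroup_le h1
      rw [hE]
      exact ⟨⟨z, hzK⟩, h2, rfl⟩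
    have hxz : x * z = z * x := hcase z hzE
    have hconj : x * k * x⁻¹ = z * k := by rw [hz]; group
    have h1 := Cfsg.Agent.Lib.Helper1.GNPC.conj_pow_of_comm x k z hconj hxz r
    rw [hxr] at h1
    have hzr : z ^ r = 1 := by
      have h2 : k = z ^ r * k := by simpa using h1
      have h3 : z ^ r * k = 1 * k := by rw [one_mul]; exact h2.symm
      exact mul_right_cancel h3
    have hzn : z ^ Nat.card K = 1 := by
      have : (⟨z, hzK⟩ : ↥K) ^ Nat.card K = 1 := pow_card_eq_one'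
      exact congrArg Subtype.val this
    have hz1 : z = 1 := by
      have h4 : orderOf z ∣ Nat.gcd (Nat.card K) r :=
        Nat.dvd_gcd (orderOf_dvd_of_pow_eq_one hzn) (orderOf_dvd_of_pow_eq_one hzr)
      rw [hcop.gcd_eq_one, Nat.dvd_one] at h4
      exact orderOf_eq_one_iff.mp h4
    rw [hz1] at hconj
    calc x * k = x * k * x⁻¹ * x := by group
      _ = k * x := by rw [hconj, one_mul]
  · exfalso
    push Not at hcase
    obtain ⟨e₀, he₀, hne₀⟩ := hcase
    have hWnt : Nontrivial W := by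
      by_contra hnt
      rw [not_nontrivial_iff_subsingleton] at hnt
      have h1 : φ x = φ 1 := by
        apply MulEquiv.ext
        intro w
        exact Subsingleton.elim _ _
      have h2 : x = 1 := hφ h1
      apply hne₀
      rw [h2, one_mul, mul_one]
    obtain ⟨q, g, hg, hgx⟩ : ∃ q : Nat.Primes, ∃ g ∈ (Cfsg.pCore (q : ℕ) ↥K).map K.subtype,
        x * g ≠ g * x := by
      by_contra hcon
      push Not at hcon
      apply hne₀
      have hle : E ≤ Subgroup.centralizer ({x} : Set Γ) := by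
        rw [hE, fittingSubgroup_eq_iSup_pCore, Subgroup.map_iSup]
        apply iSup_le
        intro q g hg
        rw [Subgroup.mem_centralizer_singleton_iff]
        exact (hcon q g hg).symm
      have := hle he₀
      rw [Subgroup.mem_centralizer_singleton_iff] at this
      exact this.symm
    have hq : (q : ℕ).Prime := q.2
    have hfq : Fact (q : ℕ).Prime := ⟨hq⟩
    obtain ⟨Q, hQ⟩ : ∃ Q : Subgroup Γ, Q = (Cfsg.pCore (q : ℕ) ↥K).map K.subtype := ⟨_, rfl⟩
    rw [← hQ] at hg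
    have hQchar : (Cfsg.pCore (q : ℕ) ↥K).Characteristic :=
      Cfsg.Agent.Lib.Helper18.pCore_characteristic _ _
    have hQn : Q.Normal := by
      rw [hQ]
      exact ConjAct.normal_of_characteristic_of_normal
    have hQK : Q ≤ K := hQ ▸ Subgroup.map_subtype_le _
    have hQq : IsPGroup (q : ℕ) Q := by
      rw [hQ]
      exact (Cfsg.Agent.Lib.Helper18.pCore_isPGroup _ _).map _
    have hg1 : g ≠ 1 := by
      rintro rfl
      apply hgx
      rw [one_mul, mul_one]
    have hQne : Q ≠ ⊥ := by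
      intro h
      rw [h, Subgroup.mem_bot] at hg
      exact hg1 hg
    have hqQ : (q : ℕ) ∣ Nat.card Q := by
      haveI : Nontrivial Q := (Subgroup.nontrivial_iff_ne_bot Q).mpr hQne
      obtain ⟨n, hn0, hn⟩ := hQq.nontrivial_iff_card.mp inferInstance
      rw [hn]
      exact dvd_pow_self _ (ne_of_gt hn0)
    have hqK : (q : ℕ) ∣ Nat.card K := dvd_trans hqQ (Subgroup.card_dvd_of_le hQK)
    have hqΓ : (q : ℕ) ∣ Nat.card Γ := dvd_trans hqK (Subgroup.card_subgroup_dvd_card K)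
    have hℓq : ℓ ≠ (q : ℕ) := by
      intro h
      apply hQne
      have hQℓ : IsPGroup ℓ Q := by rw [h]; exact hQq
      exact normal_pgroup_eq_bot_of_faithful_irred hW φ hφ hirr Q hQℓ
    have hqr : (q : ℕ) ≠ r := by
      intro h
      have h1 : (q : ℕ) ∣ Nat.gcd (Nat.card K) r := Nat.dvd_gcd hqK (h ▸ dvd_rfl)
      rw [hcop.gcd_eq_one, Nat.dvd_one] at h1
      exact hq.one_lt.ne' h1
    have hq2 : (q : ℕ) ≠ 2 := by
      intro h
      rw [h] at hqΓ
      exact (Nat.not_even_iff_odd.mpr hodd) (even_iff_two_dvd.mpr hqΓ)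
    have hx1 : x ≠ 1 := by
      rintro rfl
      apply hgx
      rw [one_mul, mul_one]
    have hℓr : ℓ ≠ r := by
      intro h
      haveI : Fintype W := Fintype.ofFinite W
      have hfr : Fact r.Prime := ⟨hr⟩
      have hWp : IsPGroup ℓ W := fun w => ⟨1, by rw [pow_one]; exact hW w⟩
      have hdvd : r ∣ Fintype.card W := by
        rw [← Nat.card_eq_fintype_card, ← h]
        obtain ⟨n, hn0, hn⟩ := hWp.nontrivial_iff_card.mp inferInstance
        rw [hn]
        exact dvd_pow_self _ (ne_of_gt hn0)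
      have hσ : (MulAut.toPerm W (φ x)) ^ r ^ 1 = 1 := by
        rw [pow_one, ← map_pow, ← map_pow, hxr, map_one, map_one]
      have hσ1 : (MulAut.toPerm W (φ x)) 1 = 1 := map_one (φ x)
      obtain ⟨b, hb, hb1⟩ := Equiv.Perm.exists_fixed_point_of_prime' hdvd hσ hσ1
      exact hb1 (hfix b hb)
    obtain ⟨v, hv1, hvx⟩ := Cfsg.Agent.Lib.Helper20.HHExt.exists_fixed_aut hℓ hq hr hℓq hℓr hqr
      hW φ x Q hxr hQq (by rw [Subgroup.normalizer_eq_top]; exact Subgroup.mem_top x)
      ⟨g, hg, hgx⟩ (fun d _ hd => hφ (by rw [hd, map_one]))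
      (fun h _ => absurd h hq2)
    exact hv1 (hfix v hvx)

end Cfsg.Agent.Lib.Helper1.PrimeAct
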