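import Mathlib
import Cfsg.Agent.Lib.Helper1.PrimeAct.IrrAct

set_option autoImplicit false

namespace Cfsg.Agent.Lib.Helper1.PrimeAct

theorem comm_of_irred {H : Type*} [Group H] [Finite H] [hsolv : Group.IsSolvable H]
    (hodd : Odd (Nat.card H))
    {W : Type*} [CommGroup W] [Finite W] {ℓ r : ℕ} (hℓ : ℓ.Prime) (hr : r.Prime)
    (hW : ∀ w : W, w ^ ℓ = 1) (ψ : H →* MulAut W)
    (hirr : ∀ W₁ : Subgroup W, (∀ g w, w ∈ W₁ → ψ g w ∈ W₁) → W₁ = ⊥ ∨ W₁ = ⊤)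
    (K : Subgroup H) [hKn : K.Normal] (x : H) (hxr : x ^ r = 1) (hcop : (Nat.card K).Coprime r)
    (hfix : ∀ w, ψ x w = w → w = 1) : ∀ k ∈ K, ψ x * ψ k = ψ k * ψ x := by
  classical
  have hsurj := QuotientGroup.mk'_surjective ψ.ker
  have hφinj : Function.Injective (QuotientGroup.kerLift ψ) := QuotientGroup.kerLift_injective ψ
  have hφmk : ∀ g : H, QuotientGroup.kerLift ψ (QuotientGroup.mk' ψ.ker g) = ψ g := fun g => rfl
  have hodd' : Odd (Nat.card (H ⧸ ψ.ker)) := by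
    have h1 : Nat.card (H ⧸ ψ.ker) ∣ Nat.card H := Subgroup.card_quotient_dvd_card _
    exact Odd.of_dvd_nat hodd h1
  have hKn' : (K.map (QuotientGroup.mk' ψ.ker)).Normal := Subgroup.Normal.map hKn _ hsurj
  have hcop' : (Nat.card (K.map (QuotientGroup.mk' ψ.ker))).Coprime r :=
    Nat.Coprime.coprime_dvd_left (Subgroup.card_map_dvd _ _) hcop
  have hirr' : ∀ W₁ : Subgroup W,
      (∀ (g : H ⧸ ψ.ker) w, w ∈ W₁ → QuotientGroup.kerLift ψ g w ∈ W₁) → W₁ = ⊥ ∨ W₁ = ⊤ := by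
    intro W₁ h
    apply hirr W₁
    intro g w hw
    exact h (QuotientGroup.mk' ψ.ker g) w hw
  have hxr' : (QuotientGroup.mk' ψ.ker x) ^ r = 1 := by rw [← map_pow, hxr, map_one]
  have key := comm_of_faithful_irred hodd' hℓ hr hW (QuotientGroup.kerLift ψ) hφinj hirr'
    (K.map (QuotientGroup.mk' ψ.ker)) (QuotientGroup.mk' ψ.ker x) hxr' hcop' hfix
  intro k hk
  have h1 := key (QuotientGroup.mk' ψ.ker k) ⟨k, hk, rfl⟩
  have h2 := congrArg (QuotientGroup.kerLift ψ) h1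
  rw [map_mul, map_mul, hφmk, hφmk] at h2
  exact h2

end Cfsg.Agent.Lib.Helper1.PrimeAct
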