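import Mathlib

set_option autoImplicit false

namespace Cfsg.Agent.Lib.Helper1.PrimeAct

theorem exists_fixed_in_coset {G : Type*} [Group G] (N : Subgroup G) [Finite N] (x g : G) {r : ℕ}
    (hr : r.Prime) (hxr : x ^ r = 1) (hxN : ∀ n ∈ N, x * n * x⁻¹ ∈ N)
    (hcop : ¬ r ∣ Nat.card N) (hg : g⁻¹ * (x * g * x⁻¹) ∈ N) :
    ∃ c, g⁻¹ * c ∈ N ∧ x * c = c * x := by
  classical
  have hfr : Fact r.Prime := ⟨hr⟩
  let α := {c : G // g⁻¹ * c ∈ N}
  let e : α ≃ N :=
    { toFun := fun c => ⟨g⁻¹ * c.1, c.2⟩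
      invFun := fun n => ⟨g * n.1, by
        show g⁻¹ * (g * n.1) ∈ N
        rw [inv_mul_cancel_left]
        exact n.2⟩
      left_inv := by
        intro c
        apply Subtype.ext
        show g * (g⁻¹ * c.1) = c.1
        rw [mul_inv_cancel_left]
      right_inv := by
        intro n
        apply Subtype.ext
        show g⁻¹ * (g * n.1) = n.1
        rw [inv_mul_cancel_left] }
  have hfin : Finite α := Finite.of_equiv _ e.symm
  have hcard : Nat.card α = Nat.card N := Nat.card_congr e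
  have hcl : ∀ c : α, g⁻¹ * (x * c.1 * x⁻¹) ∈ N := by
    intro c
    have h1 : g⁻¹ * (x * c.1 * x⁻¹) = (g⁻¹ * (x * g * x⁻¹)) * (x * (g⁻¹ * c.1) * x⁻¹) := by group
    rw [h1]
    exact N.mul_mem hg (hxN _ c.2)
  let f : α → α := fun c => ⟨x * c.1 * x⁻¹, hcl c⟩
  have hinj : Function.Injective f := by
    intro a b hab
    apply Subtype.ext
    have h1 : x * a.1 * x⁻¹ = x * b.1 * x⁻¹ := congrArg Subtype.val hab
    exact mul_left_cancel (mul_right_cancel h1)
  let σ : Equiv.Perm α := Equiv.ofBijective f (Finite.injective_iff_bijective.mp hinj)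
  have hσ : ∀ (j : ℕ) (c : α), ((σ ^ j) c).1 = x ^ j * c.1 * (x ^ j)⁻¹ := by
    intro j
    induction j with
    | zero => intro c; simp
    | succ j ih =>
      intro c
      rw [pow_succ', Equiv.Perm.mul_apply]
      show x * ((σ ^ j) c).1 * x⁻¹ = _
      rw [ih, pow_succ']
      group
  have hσr : σ ^ r ^ 1 = 1 := by
    rw [pow_one]
    apply Equiv.ext
    intro c
    apply Subtype.ext
    rw [hσ, hxr]
    simp
  haveI : Fintype α := Fintype.ofFinite α
  have hnd : ¬ r ∣ Fintype.card α := by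
    rw [← Nat.card_eq_fintype_card, hcard]
    exact hcop
  obtain ⟨c, hc⟩ := Equiv.Perm.exists_fixed_point_of_prime hnd hσr
  refine ⟨c.1, c.2, ?_⟩
  have h1 : x * c.1 * x⁻¹ = c.1 := congrArg Subtype.val hc
  calc x * c.1 = x * c.1 * x⁻¹ * x := by group
    _ = c.1 * x := by rw [h1]

end Cfsg.Agent.Lib.Helper1.PrimeAct
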