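import Mathlib

set_option autoImplicit false

namespace Cfsg.Agent.Lib.Helper1.PrimeAct

open scoped commutatorElement

theorem min_normal_solvable_ea {G : Type*} [Group G] [Finite G] (W : Subgroup G) [hWn : W.Normal]
    (hWs : Group.IsSolvable W) (hWne : W ≠ ⊥)
    (hmin : ∀ M : Subgroup G, M.Normal → M ≤ W → M = ⊥ ∨ M = W) :
    ∃ p : ℕ, p.Prime ∧ (∀ a ∈ W, ∀ b ∈ W, a * b = b * a) ∧ ∀ a ∈ W, a ^ p = 1 := by
  classical
  haveI : Nontrivial W := (Subgroup.nontrivial_iff_ne_bot W).mpr hWne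
  have hcomm : ∀ a ∈ W, ∀ b ∈ W, a * b = b * a := by
    have hDn : (⁅W, W⁆).Normal := inferInstance
    have hDle : ⁅W, W⁆ ≤ W := Subgroup.commutator_le_left W W
    rcases hmin ⁅W, W⁆ hDn hDle with h | h
    · intro a ha b hb
      have h1 : ⁅a, b⁆ ∈ ⁅W, W⁆ := Subgroup.commutator_mem_commutator ha hb
      rw [h, Subgroup.mem_bot, commutatorElement_eq_one_iff_mul_comm] at h1
      exact h1
    · exfalso
      have h1 : _root_.commutator ↥W < ⊤ := Group.IsSolvable.commutator_lt_top_of_nontrivial ↥W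
      have h2 : (_root_.commutator ↥W).map W.subtype = ⁅W, W⁆ := Subgroup.map_subtype_commutator W
      have h3 : _root_.commutator ↥W = ⊤ := by
        rw [eq_top_iff]
        intro w _
        have hw : (w : G) ∈ ⁅W, W⁆ := by rw [h]; exact w.2
        rw [← h2] at hw
        obtain ⟨w', hw', hww'⟩ := hw
        have : w' = w := Subtype.ext hww'
        rw [← this]
        exact hw'
      exact (ne_of_lt h1) h3
  have hcard : 1 < Nat.card W := Finite.one_lt_card
  obtain ⟨p, hp, hpd⟩ := Nat.exists_prime_and_dvd (ne_of_gt hcard)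
  have hfp : Fact p.Prime := ⟨hp⟩
  refine ⟨p, hp, hcomm, ?_⟩
  have hcomm' : ∀ a ∈ W, ∀ b ∈ W, Commute a b := fun a ha b hb => hcomm a ha b hb
  let Ω : Subgroup G :=
    { carrier := {x | x ∈ W ∧ x ^ p = 1}
      one_mem' := ⟨W.one_mem, one_pow p⟩
      mul_mem' := by
        rintro a b ⟨ha, ha'⟩ ⟨hb, hb'⟩
        refine ⟨W.mul_mem ha hb, ?_⟩
        rw [(hcomm' a ha b hb).mul_pow, ha', hb', one_mul]
      inv_mem' := by
        rintro a ⟨ha, ha'⟩
        exact ⟨W.inv_mem ha, by rw [inv_pow, ha', inv_one]⟩ }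
  have hΩn : Ω.Normal := by
    constructor
    rintro x ⟨hx, hx'⟩ g
    refine ⟨hWn.conj_mem x hx g, ?_⟩
    rw [conj_pow, hx']; group
  have hΩle : Ω ≤ W := fun x hx => hx.1
  obtain ⟨x, hx⟩ := exists_prime_orderOf_dvd_card' (G := W) p hpd
  have hΩne : Ω ≠ ⊥ := by
    intro h
    have hxΩ : (x : G) ∈ Ω := by
      refine ⟨x.2, ?_⟩
      have := pow_orderOf_eq_one x
      rw [hx] at this
      exact_mod_cast congrArg Subtype.val this
    rw [h, Subgroup.mem_bot] at hxΩ
    have : x = 1 := Subtype.ext hxΩ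
    rw [this, orderOf_one] at hx
    exact hp.one_lt.ne hx
  rcases hmin Ω hΩn hΩle with h | h
  · exact absurd h hΩne
  · intro y hy
    rw [← h] at hy
    exact hy.2

end Cfsg.Agent.Lib.Helper1.PrimeAct
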