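import Mathlib
import Cfsg.Agent.Lib.Helper1.PrimeAct.IrrActGen
import Cfsg.Agent.Lib.Helper1.PrimeAct.CosetFix
import Cfsg.Agent.Lib.Helper1.PrimeAct.MinNormal
import Cfsg.Agent.Lib.Helper13.EngC
import Cfsg.Agent.S3766

set_option autoImplicit false

namespace Cfsg.Agent.Lib.Helper1.PrimeAct

open scoped IsMulCommutative

theorem fittingOf_normal {G : Type*} [Group G] (K : Subgroup G) [K.Normal] :
    (Cfsg.fittingOf K).Normal := by
  have hFchar : (Cfsg.fittingSubgroup ↥K).Characteristic :=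
    Cfsg.Agent.Lib.Helper12.fittingSubgroup_characteristic ↥K
  unfold Cfsg.fittingOf
  exact ConjAct.normal_of_characteristic_of_normal

theorem fittingOf_le {G : Type*} [Group G] (K : Subgroup G) : Cfsg.fittingOf K ≤ K :=
  Subgroup.map_subtype_le _

theorem prime_elt_comm_mem_fitting {G : Type*} [Group G] [Finite G] [hG : Group.IsSolvable G]
    (hodd : Odd (Nat.card G)) (K : Subgroup G) [hKn : K.Normal] (x₀ : G) {r : ℕ} (hr : r.Prime)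
    (hx₀r : x₀ ^ r = 1) (hcop : (Nat.card K).Coprime r)
    (hfix : ∀ c ∈ Cfsg.fittingOf K, x₀ * c = c * x₀ → c = 1) :
    ∀ k ∈ K, k * x₀ * k⁻¹ * x₀⁻¹ ∈ Cfsg.fittingOf K := by
  classical
  intro k hk
  have hFK : Cfsg.fittingOf K ≤ K := fittingOf_le K
  have hgK : k * x₀ * k⁻¹ * x₀⁻¹ ∈ K := by
    have h1 : k * x₀ * k⁻¹ * x₀⁻¹ = k * (x₀ * k⁻¹ * x₀⁻¹) := by group
    rw [h1]
    exact K.mul_mem hk (hKn.conj_mem _ (K.inv_mem hk) x₀)
  apply (Cfsg.Agent.S3766.result hG K (k * x₀ * k⁻¹ * x₀⁻¹)).2.mpr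
  refine ⟨hgK, ?_⟩
  intro U V hUV hUF u hu
  obtain ⟨hUn, hVn, hlt, hmin⟩ := hUV
  have hUF' : U ≤ Cfsg.fittingOf K := hUF
  have hchief : Cfsg.IsChiefFactor U V := ⟨hlt, hUn, hVn, hmin⟩
  have hsurj := QuotientGroup.mk'_surjective V
  obtain ⟨Wb, hWb⟩ : ∃ Wb : Subgroup (G ⧸ V), Wb = U.map (QuotientGroup.mk' V) := ⟨_, rfl⟩
  have hWbn : Wb.Normal := hWb ▸ Subgroup.Normal.map hUn _ hsurj
  obtain ⟨hWbne, hWbmin⟩ := Cfsg.Agent.Lib.Helper13.chief_map_min U V hchief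
  rw [← hWb] at hWbne hWbmin
  have hWbs : Group.IsSolvable ↥Wb := inferInstance
  obtain ⟨ℓ, hℓ, hcomm, hexp⟩ := min_normal_solvable_ea Wb hWbs hWbne hWbmin
  have hWc : IsMulCommutative Wb := ⟨⟨fun a b => Subtype.ext (hcomm a a.2 b b.2)⟩⟩
  have hmem : ∀ y ∈ U, QuotientGroup.mk' V y ∈ Wb := fun y hy => hWb ▸ ⟨y, hy, rfl⟩
  obtain ⟨ψ, hψ⟩ : ∃ ψ : (G ⧸ V) →* MulAut ↥Wb, ψ = MulAut.conjNormal := ⟨_, rfl⟩
  have hψa : ∀ (g : G ⧸ V) (w : ↥Wb), ((ψ g w : ↥Wb) : G ⧸ V) = g * (w : G ⧸ V) * g⁻¹ := by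
    intro g w
    rw [hψ]
    exact MulAut.conjNormal_apply g w
  have hirr : ∀ W₁ : Subgroup ↥Wb, (∀ g w, w ∈ W₁ → ψ g w ∈ W₁) → W₁ = ⊥ ∨ W₁ = ⊤ := by
    intro W₁ hW₁
    have hMn : (W₁.map Wb.subtype).Normal := by
      constructor
      rintro _ ⟨w, hw, rfl⟩ g
      refine ⟨ψ g w, hW₁ g w hw, ?_⟩
      exact hψa g w
    have hMle : W₁.map Wb.subtype ≤ Wb := Subgroup.map_subtype_le _
    rcases hWbmin _ hMn hMle with h | h
    · left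
      exact (Subgroup.map_eq_bot_iff_of_injective W₁ Wb.subtype_injective).mp h
    · right
      rw [eq_top_iff]
      intro w _
      have hw : (w : G ⧸ V) ∈ W₁.map Wb.subtype := by rw [h]; exact w.2
      obtain ⟨w', hw', hww'⟩ := hw
      have : w' = w := Subtype.ext hww'
      rw [← this]
      exact hw'
  have hKn' : (K.map (QuotientGroup.mk' V)).Normal := Subgroup.Normal.map hKn _ hsurj
  have hcop' : (Nat.card (K.map (QuotientGroup.mk' V))).Coprime r :=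
    Nat.Coprime.coprime_dvd_left (Subgroup.card_map_dvd _ _) hcop
  have hxr' : (QuotientGroup.mk' V x₀) ^ r = 1 := by rw [← map_pow, hx₀r, map_one]
  have hodd' : Odd (Nat.card (G ⧸ V)) :=
    Odd.of_dvd_nat hodd (Subgroup.card_quotient_dvd_card _)
  have hVK : V ≤ K := hlt.le.trans (hUF'.trans hFK)
  have hrV : ¬ r ∣ Nat.card V := by
    intro h
    have h1 : r ∣ Nat.gcd (Nat.card K) r :=
      Nat.dvd_gcd (dvd_trans h (Subgroup.card_dvd_of_le hVK)) dvd_rfl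
    rw [hcop.gcd_eq_one, Nat.dvd_one] at h1
    exact hr.one_lt.ne' h1
  have hfix' : ∀ w : ↥Wb, ψ (QuotientGroup.mk' V x₀) w = w → w = 1 := by
    intro w hw
    have hw2 : (w : G ⧸ V) ∈ U.map (QuotientGroup.mk' V) := hWb ▸ w.2
    obtain ⟨y, hy, hyw⟩ := hw2
    have h1 := congrArg Subtype.val hw
    rw [hψa, ← hyw, ← map_inv, ← map_mul, ← map_mul] at h1
    have h2 : y⁻¹ * (x₀ * y * x₀⁻¹) ∈ V := by
      rw [← QuotientGroup.eq]
      exact h1.symm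
    obtain ⟨c, hc, hcx⟩ := exists_fixed_in_coset V x₀ y hr hx₀r
      (fun n hn => hVn.conj_mem n hn x₀) hrV h2
    have hcU : c ∈ U := by
      have : c = y * (y⁻¹ * c) := by group
      rw [this]
      exact U.mul_mem hy (hlt.le hc)
    have hc1 : c = 1 := hfix c (hUF' hcU) hcx
    rw [hc1, mul_one] at hc
    have hyV : y ∈ V := by
      have := V.inv_mem hc
      rwa [inv_inv] at this
    apply Subtype.ext
    rw [← hyw]
    exact (QuotientGroup.eq_one_iff y).mpr hyV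
  have key := comm_of_irred hodd' hℓ hr (fun w : ↥Wb => Subtype.ext (hexp w w.2)) ψ hirr
    (K.map (QuotientGroup.mk' V)) (QuotientGroup.mk' V x₀) hxr' hcop' hfix'
  have hk' := key (QuotientGroup.mk' V k) ⟨k, hk, rfl⟩
  have hψg : ψ (QuotientGroup.mk' V (k * x₀ * k⁻¹ * x₀⁻¹)) = 1 := by
    have e1 : ψ (QuotientGroup.mk' V (k * x₀ * k⁻¹ * x₀⁻¹)) =
        ψ (QuotientGroup.mk' V k) * ψ (QuotientGroup.mk' V x₀) * (ψ (QuotientGroup.mk' V k))⁻¹ *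
          (ψ (QuotientGroup.mk' V x₀))⁻¹ := by
      simp only [map_mul, map_inv]
    rw [e1, ← hk']
    group
  rw [← QuotientGroup.eq_one_iff]
  have h3 := hψa (QuotientGroup.mk' V (k * x₀ * k⁻¹ * x₀⁻¹))
    ⟨QuotientGroup.mk' V u⁻¹, hmem _ (U.inv_mem hu)⟩
  rw [hψg, MulAut.one_apply] at h3
  show QuotientGroup.mk' V (u * (k * x₀ * k⁻¹ * x₀⁻¹) * u⁻¹ * (k * x₀ * k⁻¹ * x₀⁻¹)⁻¹) = 1
  have h4 : u * (k * x₀ * k⁻¹ * x₀⁻¹) * u⁻¹ * (k * x₀ * k⁻¹ * x₀⁻¹)⁻¹ =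
      u * ((k * x₀ * k⁻¹ * x₀⁻¹) * u⁻¹ * (k * x₀ * k⁻¹ * x₀⁻¹)⁻¹) := by group
  rw [h4, map_mul, map_mul, map_mul (QuotientGroup.mk' V) (k * x₀ * k⁻¹ * x₀⁻¹) u⁻¹,
    map_inv (QuotientGroup.mk' V) (k * x₀ * k⁻¹ * x₀⁻¹)]
  simp only [] at h3
  rw [← h3, ← map_mul, mul_inv_cancel, map_one]

end Cfsg.Agent.Lib.Helper1.PrimeAct
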